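import Mathlib

/-!
Independence of finitely many discrete valuations of a field.
-/

set_option autoImplicit false

open WithZero

namespace Groth.Agent.DvrApx

variable {K : Type*} [Field K]

theorem eventually_mul_pow_lt {a b c : ℤᵐ⁰} (ha : a < 1) (hc : c ≠ 0) :
    ∃ N₀ : ℕ, ∀ N, N₀ ≤ N → a ^ N * b < c := by
  have hc' : 0 < c := zero_lt_iff.mpr hc
  by_cases hb : b = 0
  · exact ⟨0, fun N _ => by simpa [hb] using hc'⟩
  by_cases ha0 : a = 0
  · exact ⟨1, fun N hN => by rw [ha0, zero_pow (by omega), zero_mul]; exact hc'⟩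
  obtain ⟨A, rfl⟩ : ∃ A : ℤ, a = exp A := ⟨a.log, (exp_log ha0).symm⟩
  obtain ⟨B, rfl⟩ : ∃ B : ℤ, b = exp B := ⟨b.log, (exp_log hb).symm⟩
  obtain ⟨C, rfl⟩ : ∃ C : ℤ, c = exp C := ⟨c.log, (exp_log hc).symm⟩
  rw [← exp_zero, exp_lt_exp] at ha
  refine ⟨(B - C).toNat + 1, fun N hN => ?_⟩
  rw [← exp_nsmul, ← exp_add, exp_lt_exp, nsmul_eq_mul]
  have h1 : (N : ℤ) * A ≤ (N : ℤ) * (-1) := mul_le_mul_of_nonneg_left (by omega) (by positivity)
  omega

theorem exists_sep {ι : Type*} (v : ι → Valuation K ℤᵐ⁰) (i : ι) (S : Finset ι) (hi : i ∉ S)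
    (hsep : ∀ j, j ≠ i → ∃ x, v i x < 1 ∧ 1 < v j x) :
    ∃ z, v i z < 1 ∧ ∀ j ∈ S, 1 < v j z := by
  classical
  induction S using Finset.induction_on with
  | empty => exact ⟨0, by simp, by simp⟩
  | @insert k S hk ih =>
    simp only [Finset.mem_insert, not_or] at hi
    obtain ⟨z, hz, hzS⟩ := ih hi.2
    obtain ⟨w, hw, hwk⟩ := hsep k (Ne.symm hi.1)
    by_cases hzk : 1 < v k z
    · exact ⟨z, hz, fun j hj => by rcases Finset.mem_insert.mp hj with rfl | h; exacts [hzk, hzS j h]⟩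
    rw [not_lt] at hzk
    have hN : ∀ j ∈ S, ∃ N₀ : ℕ, ∀ N, N₀ ≤ N → v j w < v j z ^ N := by
      intro j hj
      have hpos : 0 < v j z := lt_trans zero_lt_one (hzS j hj)
      obtain ⟨N₀, h⟩ := eventually_mul_pow_lt (b := v j w) (c := 1)
        (inv_lt_one_of_one_lt₀ (hzS j hj)) one_ne_zero
      refine ⟨N₀, fun N hle => ?_⟩
      have h2 := h N hle
      rwa [inv_pow, inv_mul_lt_iff₀ (pow_pos hpos N), mul_one] at h2
    choose! N₀ hN₀ using hN
    refine ⟨z ^ (S.sup N₀ + 1) + w, ?_, fun j hj => ?_⟩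
    · refine Valuation.map_add_lt _ ?_ hw
      rw [map_pow]
      exact pow_lt_one₀ zero_le hz (Nat.succ_ne_zero _)
    · rcases Finset.mem_insert.mp hj with rfl | h
      · rw [Valuation.map_add_eq_of_lt_right]
        · exact hwk
        · rw [map_pow]; exact lt_of_le_of_lt (pow_le_one₀ zero_le hzk) hwk
      · have h1 := hN₀ j h (S.sup N₀ + 1) (Nat.le_succ_of_le (Finset.le_sup h))
        rw [Valuation.map_add_eq_of_lt_left _ (by rwa [map_pow]), map_pow]
        exact one_lt_pow₀ (hzS j h) (Nat.succ_ne_zero _)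

theorem exists_prescribed {ι : Type*} [Finite ι] (v : ι → Valuation K ℤᵐ⁰)
    (hsep : ∀ i j, j ≠ i → ∃ x, v i x < 1 ∧ 1 < v j x)
    (π : ι → K) (hπ : ∀ i, v i (π i) = exp (-1 : ℤ)) (n : ι → ℤ) :
    ∃ f : K, f ≠ 0 ∧ ∀ i, v i f = exp (-(n i)) := by
  classical
  cases isEmpty_or_nonempty ι
  · exact ⟨1, one_ne_zero, fun i => isEmptyElim i⟩
  letI := Fintype.ofFinite ι
  choose z hz hzne using fun i => exists_sep v i (Finset.univ.erase i) (Finset.notMem_erase i _) (hsep i)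
  let e : ι → K := fun i => (1 + z i)⁻¹
  have he1 : ∀ i, v i (e i) = 1 := fun i => by
    show v i (1 + z i)⁻¹ = 1
    rw [map_inv₀, Valuation.map_one_add_of_lt _ (hz i), inv_one]
  have he2 : ∀ i j, j ≠ i → v j (e i) < 1 := fun i j hji => by
    have h := hzne i j (by simp [hji])
    show v j (1 + z i)⁻¹ < 1
    rw [map_inv₀, Valuation.map_add_eq_of_lt_right _ (by rwa [map_one])]
    exact inv_lt_one_of_one_lt₀ h
  have hN : ∀ i j, ∃ N₀ : ℕ, ∀ N, N₀ ≤ N → j ≠ i →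
      v j (e i ^ N * π i ^ n i) < exp (-(n j)) := by
    intro i j
    by_cases hji : j = i
    · exact ⟨0, fun N _ h => absurd hji h⟩
    obtain ⟨N₀, h⟩ := eventually_mul_pow_lt (b := v j (π i ^ n i)) (he2 i j hji) (exp_ne_zero (a := -(n j)))
    exact ⟨N₀, fun N hle _ => by rw [map_mul, map_pow]; exact h N hle⟩
  choose N₀ hN₀ using hN
  let N := Finset.univ.sup fun p : ι × ι => N₀ p.1 p.2
  have hle : ∀ i j, N₀ i j ≤ N := fun i j => Finset.le_sup (f := fun p : ι × ι => N₀ p.1 p.2) (Finset.mem_univ (i, j))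
  let f : K := ∑ i, e i ^ N * π i ^ n i
  have hf : ∀ j, v j f = exp (-(n j)) := by
    intro j
    have hd : v j (e j ^ N * π j ^ n j) = exp (-(n j)) := by
      rw [map_mul, map_pow, he1, one_pow, one_mul, map_zpow₀, hπ, ← exp_zsmul]
      congr 1
      simp
    show v j (∑ i, e i ^ N * π i ^ n i) = _
    rw [← Finset.add_sum_erase _ _ (Finset.mem_univ j), Valuation.map_add_eq_of_lt_left, hd]
    rw [hd]
    exact Valuation.map_sum_lt _ (exp_ne_zero) fun i hi => hN₀ i j N (hle i j) (Finset.ne_of_mem_erase hi).symm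
  obtain ⟨i⟩ := ‹Nonempty ι›
  exact ⟨f, fun h => exp_ne_zero ((hf i).symm.trans (by rw [h, map_zero])), hf⟩

end Groth.Agent.DvrApx
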